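import Cfsg.Agent.H469.IF.J3
import Cfsg.Agent.H269.CubeJ3

/-!
# S5719, `J₃` (helper469)
-/

set_option autoImplicit false

namespace Cfsg.Agent.H469.IF

open Cfsg Cfsg.Agent

universe u

/-- **`J₃` has no `A` of odd order.** -/
theorem killO_J3 {T : Type u} [Group T] (h : Spor.IsoJ3 T) : Cfsg.Agent.H209.Fxy.KillO T := by
  obtain ⟨hs, hc, -⟩ := Cfsg.Agent.H898.J3Cent.base h
  have hfin : Finite T := Nat.finite_of_card_ne_zero (by rw [hc]; norm_num)
  refine Cfsg.Agent.H546.IFO.killO_cube ?_ (Cfsg.Agent.H269.CubeJ3.cube_J3 h) (out_J3 h) (by rw [hc]; norm_num)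
  by_contra hcomm
  push Not at hcomm
  let _ : CommGroup T := { (inferInstance : Group T) with mul_comm := hcomm }
  have h3 : (Nat.card T).Prime := IsSimpleGroup.prime_card (α := T)
  rw [hc] at h3
  norm_num at h3

end Cfsg.Agent.H469.IF
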